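import Cfsg.Agent.CentAlt.Perm
import Cfsg.Agent.WeakJ1.Main
import Cfsg.Agent.S3189
import Cfsg.Agent.S1230
import Cfsg.Agent.S0813
import Cfsg.Agent.Classical.Dickson2.Tools
import Cfsg.Agent.Classical.SmallPSL
import Cfsg.Agent.OrderType.Count
import Cfsg.Agent.Core.Solvable
import Cfsg.Prelude.Def_SporadicB
import Cfsg.Prelude.Def_TwoFusion

/-!
An involution central in a Sylow 2-subgroup with centraliser `2 × A_m` in a group without subgroups of index two.
-/

set_option autoImplicit false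
set_option maxRecDepth 100000
set_option synthInstance.maxSize 10000
set_option synthInstance.maxHeartbeats 1000000
set_option linter.all false

namespace Cfsg.Agent.CentAlt

open Equiv
open scoped commutatorElement

variable {G : Type*} [Group G]

/-- The power of `J` attached to an element of the group of order two. -/
def pw (J : G) (a : Multiplicative (ZMod 2)) : G := if a = 1 then 1 else J

theorem zmod2_cases : ∀ a b : Multiplicative (ZMod 2), (a = 1 ∨ b = 1 ∨ a * b = 1) ∧
    (a ≠ 1 → a = Multiplicative.ofAdd 1) := by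
  decide +kernel

theorem pw_mul {J : G} (hJJ : J * J = 1) (a b : Multiplicative (ZMod 2)) : pw J (a * b) = pw J a * pw J b := by
  by_cases ha : a = 1
  · subst ha; simp [pw]
  by_cases hb : b = 1
  · subst hb; simp [pw]
  have hab : a * b = 1 := ((zmod2_cases a b).1.resolve_left ha).resolve_left hb
  simp [pw, ha, hb, hab, hJJ]

/-- An internal direct product with a group of order two. -/
theorem prod_equiv {J : G} (hJ : orderOf J = 2) {T C : Subgroup G}
    (hd : Cfsg.IsInternalDirectProduct (Subgroup.zpowers J) T C) {A : Type*} [Group A] (e : T ≃* A) :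
    ∃ f : Multiplicative (ZMod 2) × A →* G, Function.Injective f ∧ f.range = C ∧
      (∀ a, f (a, 1) = pw J a) ∧ (∀ a, f (1, a) = (e.symm a : G)) := by
  obtain ⟨h1, h2, hc, hi, hs⟩ := hd
  have hJJ : J * J = 1 := by rw [← pow_two, ← hJ, pow_orderOf_eq_one]
  have hpm : ∀ a, pw J a ∈ Subgroup.zpowers J := fun a => by
    unfold pw
    split
    · exact one_mem _
    · exact Subgroup.mem_zpowers J
  let f : Multiplicative (ZMod 2) × A →* G := MonoidHom.mk' (fun p => pw J p.1 * (e.symm p.2 : G)) fun p q => by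
    simp only [Prod.fst_mul, Prod.snd_mul, pw_mul hJJ, map_mul, Subgroup.coe_mul]
    have := hc _ (hpm q.1) _ (e.symm p.2).2
    calc pw J p.1 * pw J q.1 * ((e.symm p.2 : G) * (e.symm q.2 : G))
        = pw J p.1 * (pw J q.1 * (e.symm p.2 : G)) * (e.symm q.2 : G) := by group
      _ = pw J p.1 * ((e.symm p.2 : G) * pw J q.1) * (e.symm q.2 : G) := by rw [this]
      _ = pw J p.1 * (e.symm p.2 : G) * (pw J q.1 * (e.symm q.2 : G)) := by group
  have hf : ∀ p, f p = pw J p.1 * (e.symm p.2 : G) := fun _ => rfl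
  have hf1 : ∀ a, f (a, 1) = pw J a := fun a => by rw [hf, map_one, Subgroup.coe_one, mul_one]
  have hf2 : ∀ a, f (1, a) = (e.symm a : G) := fun a => by rw [hf]; simp [pw]
  refine ⟨f, (MonoidHom.ker_eq_bot_iff f).1 ((eq_bot_iff).2 fun p hp => ?_), ?_, hf1, hf2⟩
  · rw [MonoidHom.mem_ker, hf, mul_eq_one_iff_eq_inv] at hp
    have hm : pw J p.1 ∈ Subgroup.zpowers J ⊓ T :=
      Subgroup.mem_inf.2 ⟨hpm _, by rw [hp]; exact T.inv_mem (e.symm p.2).2⟩
    rw [hi, Subgroup.mem_bot] at hm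
    have h1' : p.1 = 1 := by
      by_contra hne
      rw [pw, if_neg hne] at hm
      rw [hm, orderOf_one] at hJ
      omega
    rw [hm, eq_comm, inv_eq_one] at hp
    have h2' : e.symm p.2 = 1 := Subtype.ext hp
    rw [MulEquiv.map_eq_one_iff] at h2'
    exact Subgroup.mem_bot.2 (Prod.ext h1' h2')
  · refine le_antisymm ?_ (hs ▸ sup_le (Subgroup.zpowers_le.2 ?_) fun x hx => ?_)
    · rintro x ⟨p, rfl⟩
      rw [hf]
      exact mul_mem (h1 (hpm _)) (h2 (e.symm p.2).2)
    · exact ⟨(Multiplicative.ofAdd 1, 1), by rw [hf1]; simp [pw]⟩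
    · exact ⟨(1, e ⟨x, hx⟩), by rw [hf2, MulEquiv.symm_apply_apply]⟩

theorem comm_facts : (∀ a b : Multiplicative (ZMod 2), a * b * a⁻¹ * b⁻¹ = 1) ∧
    (∀ a b : ↥(alternatingGroup (Fin 4)), a * a = 1 →
      (a * b * a⁻¹ * b⁻¹) * (a * b * a⁻¹ * b⁻¹) = 1) := by
  decide +kernel

/-- The setting. -/
structure Setup (G : Type*) [Group G] (J : G) (T : Subgroup G) : Prop where
  hns : ¬ Group.IsSolvable G
  h2 : ∀ N : Subgroup G, N.Normal → N.index ≠ 2
  hJ : Cfsg.IsTwoCentralInvolution J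
  hd : Cfsg.IsInternalDirectProduct (Subgroup.zpowers J) T (Subgroup.centralizer ({J} : Set G))

namespace Setup

variable {J : G} {T : Subgroup G} (s : Setup G J T)

include s in
theorem J_sq : J * J = 1 := by rw [← pow_two, ← s.hJ.1, pow_orderOf_eq_one]

include s in
theorem J_ne : J ≠ 1 := fun e => by
  have := s.hJ.1
  rw [e, orderOf_one] at this
  omega

include s in
theorem J_notMem : J ∉ T := fun h => s.J_ne (by
  have : J ∈ Subgroup.zpowers J ⊓ T := ⟨Subgroup.mem_zpowers J, h⟩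
  rwa [s.hd.2.2.2.1, Subgroup.mem_bot] at this)

include s in
theorem split {x : G} (hx : x * J = J * x) : x ∈ T ∨ x * J ∈ T := by
  obtain ⟨f, -, hr, hf1, hf2⟩ := prod_equiv s.hJ.1 s.hd (MulEquiv.refl T)
  obtain ⟨⟨a, b⟩, rfl⟩ : x ∈ f.range := hr ▸ Subgroup.mem_centralizer_singleton_iff.2 hx
  have e : f (a, b) = pw J a * (b : G) := by
    rw [show ((a, b) : Multiplicative (ZMod 2) × T) = (a, 1) * (1, b) by simp, map_mul, hf1, hf2]
    rfl
  by_cases ha : a = 1
  · left
    rw [e, pw, if_pos ha, one_mul]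
    exact b.2
  · right
    rw [hx, e, pw, if_neg ha, ← mul_assoc, s.J_sq, one_mul]
    exact b.2

include s in
theorem commutator_T {a b : G} (ha : a * J = J * a) (hb : b * J = J * b) : a * b * a⁻¹ * b⁻¹ ∈ T := by
  have key : ∀ {x : G}, x * J = J * x → ∃ y ∈ T, x = y ∨ x = J * y := fun {x} hx => by
    rcases s.split hx with h | h
    · exact ⟨x, h, Or.inl rfl⟩
    · exact ⟨x * J, h, Or.inr (by rw [hx, ← mul_assoc, s.J_sq, one_mul])⟩
  have hJT : ∀ y ∈ T, J * y = y * J := fun y hy => s.hd.2.2.1 J (Subgroup.mem_zpowers J) y hy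
  obtain ⟨y, hy, ey⟩ := key ha
  obtain ⟨z, hz, ez⟩ := key hb
  have hJa : J * a = a * J := ha.symm
  have : a * b * a⁻¹ * b⁻¹ = y * z * y⁻¹ * z⁻¹ := by
    rcases ey with rfl | rfl <;> rcases ez with rfl | rfl
    · rfl
    · calc a * (J * z) * a⁻¹ * (J * z)⁻¹ = (a * J) * (z * a⁻¹ * z⁻¹) * J⁻¹ := by group
        _ = (J * a) * (z * a⁻¹ * z⁻¹) * J⁻¹ := by rw [hJa]
        _ = J * (a * z * a⁻¹ * z⁻¹) * J⁻¹ := by group
        _ = a * z * a⁻¹ * z⁻¹ := by
            rw [hJT _ (mul_mem (mul_mem (mul_mem hy hz) (inv_mem hy)) (inv_mem hz)), mul_inv_cancel_right]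
    · calc J * y * b * (J * y)⁻¹ * b⁻¹ = J * (y * b * y⁻¹) * J⁻¹ * b⁻¹ := by group
        _ = y * b * y⁻¹ * J * J⁻¹ * b⁻¹ := by rw [hJT _ (mul_mem (mul_mem hy hz) (inv_mem hy))]
        _ = y * b * y⁻¹ * b⁻¹ := by group
    · calc J * y * (J * z) * (J * y)⁻¹ * (J * z)⁻¹ = J * (y * J) * (z * y⁻¹) * J⁻¹ * z⁻¹ * J⁻¹ := by group
        _ = (J * J) * (y * (z * y⁻¹) * J⁻¹) * z⁻¹ * J⁻¹ := by rw [← hJT y hy]; group
        _ = y * z * y⁻¹ * (J⁻¹ * z⁻¹) * J⁻¹ := by rw [s.J_sq]; group
        _ = y * z * y⁻¹ * (z⁻¹ * J⁻¹) * J⁻¹ := by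
            rw [(Commute.inv_left (hJT _ (inv_mem hz)) : J⁻¹ * z⁻¹ = z⁻¹ * J⁻¹)]
        _ = y * z * y⁻¹ * z⁻¹ * (J * J)⁻¹ := by group
        _ = y * z * y⁻¹ * z⁻¹ := by rw [s.J_sq, inv_one, mul_one]
  rw [this]
  exact mul_mem (mul_mem (mul_mem hy hz) (inv_mem hy)) (inv_mem hz)

variable [Finite G]

include s in
/-- The involution fuses into the complement. -/
theorem exists_fused : ∃ g : G, g * J * g⁻¹ ∈ T := by
  haveI := Fact.mk Nat.prime_two
  obtain ⟨-, S, hJS, hS⟩ := s.hJ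
  by_contra hno
  push Not at hno
  have hM : ((S : Subgroup G) ⊓ T).relIndex (S : Subgroup G) = 2 := by
    rw [Subgroup.relIndex, Subgroup.index_eq_two_iff]
    refine ⟨⟨J, hJS⟩, fun b => ?_⟩
    simp only [Subgroup.mem_subgroupOf, Subgroup.coe_mul, Subgroup.mem_inf]
    have hbS : (b : G) ∈ (S : Subgroup G) := b.2
    have hxs : (b : G) * J ∈ (S : Subgroup G) := mul_mem hbS hJS
    rcases s.split (hS b b.2) with h | h
    · refine Or.inr ⟨⟨hbS, h⟩, fun h' => s.J_notMem ?_⟩
      simpa using mul_mem (inv_mem h) h'.2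
    · refine Or.inl ⟨⟨hxs, h⟩, fun h' => s.J_notMem ?_⟩
      simpa using mul_mem (inv_mem h'.2) h
  obtain ⟨N, hN, hi, -⟩ := TwoTransfer.exists_index_two S _ hM J hJS
    (fun k g hk _ => by
      obtain ⟨j, rfl⟩ := Nat.exists_eq_add_of_le' hk
      rw [pow_succ', pow_mul, pow_two, s.J_sq, one_pow, mul_one, inv_mul_cancel]
      exact one_mem _)
    (fun g hg h => by
      refine hno g⁻¹ ?_
      rw [inv_inv]
      exact h.2)
  exact s.h2 N hN hi

include s in
theorem not_large {m : ℕ} (hm : 6 ≤ m) (e : T ≃* alternatingGroup (Fin m)) : False := by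
  obtain ⟨g, hg⟩ := s.exists_fused
  set τ := g * J * g⁻¹ with hτ
  have hτ2 : (⟨τ, hg⟩ : T) * ⟨τ, hg⟩ = 1 := Subtype.ext (by
    show g * J * g⁻¹ * (g * J * g⁻¹) = 1
    rw [show g * J * g⁻¹ * (g * J * g⁻¹) = g * (J * J) * g⁻¹ by group, s.J_sq]
    group)
  have hmem := even_commutator hm (e ⟨τ, hg⟩) (by rw [← map_mul, hτ2, map_one])
  let ψ : alternatingGroup (Fin m) →* G := T.subtype.comp e.symm.toMonoidHom
  set X := Subgroup.centralizer ({e ⟨τ, hg⟩} : Set (alternatingGroup (Fin m)))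
  have h1 : τ ∈ ⁅X.map ψ, X.map ψ⁆ := by
    rw [← Subgroup.map_commutator]
    exact ⟨_, hmem, by show (e.symm (e ⟨τ, hg⟩) : G) = τ; rw [e.symm_apply_apply]⟩
  have hX : ∀ x ∈ X.map ψ, (g⁻¹ * x * g) * J = J * (g⁻¹ * x * g) := by
    rintro _ ⟨a, ha, rfl⟩
    have h' := congrArg ψ (Subgroup.mem_centralizer_singleton_iff.1 ha)
    rw [map_mul, map_mul, show ψ (e ⟨τ, hg⟩) = τ from congrArg Subtype.val (e.symm_apply_apply ⟨τ, hg⟩)] at h'
    have h'' := WeakJ1.conj_comm (g := g⁻¹) h'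
    rw [inv_inv, hτ, show g⁻¹ * (g * J * g⁻¹) * g = J by group] at h''
    exact h''
  have h3 : ⁅X.map ψ, X.map ψ⁆ ≤ T.map (MulAut.conj g).toMonoidHom := Subgroup.commutator_le.2 fun a ha b hb =>
    ⟨_, s.commutator_T (hX a ha) (hX b hb), by
      show g * (g⁻¹ * a * g * (g⁻¹ * b * g) * (g⁻¹ * a * g)⁻¹ * (g⁻¹ * b * g)⁻¹) * g⁻¹ = ⁅a, b⁆
      rw [commutatorElement_def]
      group⟩
  obtain ⟨y, hy, hye⟩ := h3 h1
  exact s.J_notMem ((MulAut.conj g).injective (show MulAut.conj g y = MulAut.conj g J from hye) ▸ hy)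

include s in
theorem not_small {m : ℕ} (hm : m ≤ 3) (e : T ≃* alternatingGroup (Fin m)) : False := by
  obtain ⟨g, hg⟩ := s.exists_fused
  have hsq : (⟨_, hg⟩ : T) * ⟨_, hg⟩ = 1 := Subtype.ext (by
    show g * J * g⁻¹ * (g * J * g⁻¹) = 1
    rw [show g * J * g⁻¹ * (g * J * g⁻¹) = g * (J * J) * g⁻¹ by group, s.J_sq]
    group)
  have h1 := no_invol_small hm (e ⟨_, hg⟩) (by rw [← map_mul, hsq, map_one])
  rw [MulEquiv.map_eq_one_iff] at h1
  exact s.J_ne (conj_eq_one_iff.1 (congrArg Subtype.val h1))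

include s in
theorem five (e : T ≃* alternatingGroup (Fin 5)) : Cfsg.Spor.IsoJ1 G := by
  haveI := Fact.mk Nat.prime_two
  obtain ⟨f, hfi, hfr, hf1, hf2⟩ := prod_equiv s.hJ.1 s.hd e
  obtain ⟨g, hg⟩ := s.exists_fused
  set C := Subgroup.centralizer ({J} : Set G) with hC
  have hW : WeakJ1.Wsub J = C := by
    refine le_antisymm (WeakJ1.wsub_le_cent J) ?_
    refine le_trans (le_of_eq s.hd.2.2.2.2.symm) ?_
    refine sup_le (Subgroup.zpowers_le.2 (WeakJ1.wset_le (WeakJ1.wset_self J))) ?_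
    haveI : IsSimpleGroup (alternatingGroup (Fin 5)) := alternatingGroup.isSimpleGroup_five
    let ψ : alternatingGroup (Fin 5) →* G := T.subtype.comp e.symm.toMonoidHom
    have hψC : ∀ a, ψ a ∈ C := fun a => s.hd.2.1 (e.symm a).2
    have hN : ((WeakJ1.Wsub J).comap ψ).Normal := ⟨fun a ha b => by
      show ψ (b * a * b⁻¹) ∈ WeakJ1.Wsub J
      rw [map_mul, map_mul, map_inv]
      exact WeakJ1.wsub_normal_in (hψC b) ha⟩
    rcases hN.eq_bot_or_eq_top with h | h
    · exfalso
      have hm : e ⟨_, hg⟩ ∈ (WeakJ1.Wsub J).comap ψ := by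
        show ψ (e ⟨_, hg⟩) ∈ WeakJ1.Wsub J
        rw [show ψ (e ⟨_, hg⟩) = g * J * g⁻¹ from congrArg Subtype.val (e.symm_apply_apply ⟨_, hg⟩)]
        exact WeakJ1.wset_le ⟨g, rfl, Subgroup.mem_centralizer_singleton_iff.1 (s.hd.2.1 hg)⟩
      rw [h, Subgroup.mem_bot, MulEquiv.map_eq_one_iff] at hm
      exact s.J_ne (conj_eq_one_iff.1 (congrArg Subtype.val hm))
    · intro x hx
      have hm : e ⟨x, hx⟩ ∈ (WeakJ1.Wsub J).comap ψ := h ▸ Subgroup.mem_top _
      rwa [Subgroup.mem_comap, show ψ (e ⟨x, hx⟩) = x from congrArg Subtype.val (e.symm_apply_apply ⟨x, hx⟩)] at hm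
  obtain ⟨-, S, -, hS⟩ := s.hJ
  have hH : WeakJ1.Hyp J := ⟨s.hJ.1, ⟨S, fun x hx => Subgroup.mem_centralizer_singleton_iff.2 (hS x hx)⟩,
    ⟨((MulEquiv.subgroupCongr hW).trans (MulEquiv.subgroupCongr hfr.symm)).trans (MonoidHom.ofInjective hfi).symm⟩⟩
  obtain ⟨eK⟩ := WeakJ1.main hH
  set K := Subgroup.normalClosure ({J} : Set G) with hK
  have hJK : J ∈ K := Subgroup.subset_normalClosure (Set.mem_singleton J)
  have hCK : C ≤ K := hW ▸ hH.W_le_normalClosure
  have hKtop : K = ⊤ := by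
    rw [eq_top_iff]
    intro x _
    have hxK : x * J * x⁻¹ ∈ K := Subgroup.normalClosure_normal.conj_mem J hJK x
    have h1 : orderOf (eK ⟨J, hJK⟩) = 2 := by
      rw [MulEquiv.orderOf_eq, ← Subgroup.orderOf_coe]
      exact s.hJ.1
    have h2 : orderOf (eK ⟨_, hxK⟩) = 2 := by
      rw [MulEquiv.orderOf_eq, ← Subgroup.orderOf_coe]
      exact (orderOf_injective (MulAut.conj x).toMonoidHom (MulAut.conj x).injective J).trans s.hJ.1
    obtain ⟨a, ha⟩ := JankoOne.invol_conj_tG h1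
    obtain ⟨b, hb⟩ := JankoOne.invol_conj_tG h2
    have e1 : eK.symm (b⁻¹ * a) * ⟨J, hJK⟩ * (eK.symm (b⁻¹ * a))⁻¹ = ⟨_, hxK⟩ := by
      apply eK.injective
      rw [map_mul, map_mul, map_inv, MulEquiv.apply_symm_apply,
        show b⁻¹ * a * eK ⟨J, hJK⟩ * (b⁻¹ * a)⁻¹ = b⁻¹ * (a * eK ⟨J, hJK⟩ * a⁻¹) * b by group, ha, ← hb]
      group
    set k : K := eK.symm (b⁻¹ * a)
    have e2 : (k : G) * J * (k : G)⁻¹ = x * J * x⁻¹ := congrArg Subtype.val e1
    have hc : (k : G)⁻¹ * x ∈ C := Subgroup.mem_centralizer_singleton_iff.2 (by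
      calc (k : G)⁻¹ * x * J = (k : G)⁻¹ * (x * J * x⁻¹) * x := by group
        _ = (k : G)⁻¹ * ((k : G) * J * (k : G)⁻¹) * x := by rw [e2]
        _ = J * ((k : G)⁻¹ * x) := by group)
    have := mul_mem k.2 (hCK hc)
    rwa [mul_inv_cancel_left] at this
  exact ⟨((Subgroup.topEquiv.symm.trans (MulEquiv.subgroupCongr hKtop.symm)).trans eK)⟩

include s in
theorem four (e : T ≃* alternatingGroup (Fin 4)) :
    ∃ (F : Type) (_ : Field F) (_ : Fintype F), Fintype.card F = 8 ∧
      Nonempty (G ≃* MulAut (Matrix.ProjectiveSpecialLinearGroup (Fin 2) F)) := by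
  haveI := Fact.mk Nat.prime_two
  obtain ⟨f, hfi, hfr, hf1, hf2⟩ := prod_equiv s.hJ.1 s.hd e
  obtain ⟨q6, qcomm, qfix, qconj, ⟨pA, qA, hpA, hqA, hpA1, hqA1, hpq⟩, qthree⟩ := m4_facts
  set C := Subgroup.centralizer ({J} : Set G) with hC
  obtain ⟨-, S, hJS, hS⟩ := s.hJ
  have hSC : (S : Subgroup G) ≤ C := fun x hx => Subgroup.mem_centralizer_singleton_iff.2 (hS x hx)
  have hpre : ∀ {x}, x ∈ C → ∃ p, f p = x := fun {x} hx => by rwa [← hfr] at hx
  have hcard4 : Nat.card (alternatingGroup (Fin 4)) = 12 := by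
    rw [nat_card_alternatingGroup, Nat.card_fin]; rfl
  have hcC : Nat.card C = 24 := by
    rw [← hfr, ← Nat.card_congr (MonoidHom.ofInjective hfi).toEquiv, Nat.card_prod,
      Nat.card_congr Multiplicative.toAdd, Nat.card_zmod, hcard4]
  have hS8 : Nat.card (S : Subgroup G) = 8 := by
    obtain ⟨n, hn⟩ := IsPGroup.iff_card.1 S.isPGroup'
    have h1 : 2 ^ n ∣ 24 := by rw [← hn, ← hcC]; exact Subgroup.card_dvd_of_le hSC
    have h2 : 2 ^ 3 ∣ Nat.card G := (show 2 ^ 3 ∣ 24 by norm_num).trans (hcC ▸ C.card_subgroup_dvd_card)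
    have h3 : 2 ^ 3 ∣ 2 ^ n := hn ▸ S.pow_dvd_card_of_pow_dvd_card h2
    have h4 : 3 ≤ n := (Nat.pow_dvd_pow_iff_le_right (by norm_num)).1 h3
    have h5 : n ≤ 3 := by
      by_contra hh
      have : 2 ^ 4 ∣ 24 := (pow_dvd_pow 2 (by omega : 4 ≤ n)).trans h1
      norm_num at this
    rw [hn, show n = 3 by omega]; rfl
  have htwo : ∀ x ∈ (S : Subgroup G), x * x = 1 := fun x hx => by
    obtain ⟨p, rfl⟩ := hpre (hSC hx)
    obtain ⟨k, hk⟩ := S.isPGroup' ⟨_, hx⟩
    have h1 : p ^ 2 ^ k = 1 := hfi (by rw [map_pow, map_one]; exact congrArg Subtype.val hk)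
    have h2 : orderOf p ∣ 2 := by
      have ha := orderOf_dvd_of_pow_eq_one h1
      have hb := orderOf_dvd_of_pow_eq_one (q6 p)
      obtain ⟨i, -, hi⟩ := (Nat.dvd_prime_pow Nat.prime_two).1 ha
      rw [hi] at hb ⊢
      rcases Nat.lt_or_ge i 2 with h | h
      · exact (pow_dvd_pow 2 (by omega : i ≤ 1))
      · exfalso
        have : 2 ^ 2 ∣ 6 := (pow_dvd_pow 2 h).trans hb
        norm_num at this
    rw [← map_mul, ← pow_two, orderOf_dvd_iff_pow_eq_one.1 h2, map_one]
  have hmemS : ∀ {x}, x ∈ C → x * x = 1 → x ∈ (S : Subgroup G) := by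
    intro x hx hx2
    obtain ⟨g, hg, hgS⟩ := WeakJ1.sylow_conj_into S hSC (P := Subgroup.zpowers x) (by
      obtain ⟨i, -, hi⟩ := (Nat.dvd_prime_pow Nat.prime_two).1
        (orderOf_dvd_of_pow_eq_one (x := x) (n := 2 ^ 1) (by rw [pow_one, pow_two, hx2]))
      exact IsPGroup.of_card (n := i) (by rw [Nat.card_zpowers, hi])) (Subgroup.zpowers_le.2 hx)
    have hy := hgS x (Subgroup.mem_zpowers x)
    -- involutions of the centraliser commute, so conjugation in it fixes the Sylow subgroup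
    have hall : ∀ y ∈ (S : Subgroup G), g * y * g⁻¹ * x = x * (g * y * g⁻¹) := fun y hy' => by
      obtain ⟨p, hp⟩ := hpre (mul_mem (mul_mem hg (hSC hy')) (inv_mem hg))
      obtain ⟨r, hr⟩ := hpre hx
      rw [← hp, ← hr, ← map_mul, ← map_mul]
      refine congrArg f (qcomm p r (hfi ?_) (hfi ?_))
      · rw [map_mul, hp, map_one, show g * y * g⁻¹ * (g * y * g⁻¹) = g * (y * y) * g⁻¹ by group, htwo y hy']
        group
      · rw [map_mul, hr, map_one, hx2]
    have hcomm2 : ∀ y ∈ (S : Subgroup G), y * x = x * y := fun y hy' => by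
      obtain ⟨p, hp⟩ := hpre (hSC hy')
      obtain ⟨r, hr⟩ := hpre hx
      rw [← hp, ← hr, ← map_mul, ← map_mul]
      refine congrArg f (qcomm p r (hfi ?_) (hfi ?_))
      · rw [map_mul, hp, map_one, htwo y hy']
      · rw [map_mul, hr, map_one, hx2]
    have hnx : x ∈ Subgroup.normalizer ((S : Subgroup G) : Set G) := WeakJ1.normalizer_of_le _ fun y hy' => by
      rw [← hcomm2 y hy', mul_inv_cancel_right]; exact hy'
    by_contra hxS
    have hp : IsPGroup 2 (Subgroup.zpowers x) := by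
      obtain ⟨i, -, hi⟩ := (Nat.dvd_prime_pow Nat.prime_two).1
        (orderOf_dvd_of_pow_eq_one (x := x) (n := 2 ^ 1) (by rw [pow_one, pow_two, hx2]))
      exact IsPGroup.of_card (n := i) (by rw [Nat.card_zpowers, hi])
    have hsup := S.isPGroup'.to_sup_of_normal_left' hp (Subgroup.zpowers_le.2 hnx)
    have := S.is_maximal' hsup le_sup_left
    exact hxS (this ▸ Subgroup.mem_sup_right (Subgroup.mem_zpowers x))
  have hScomm : ∀ x ∈ (S : Subgroup G), ∀ y ∈ (S : Subgroup G), x * y = y * x := fun x hx y hy => by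
    obtain ⟨p, hp⟩ := hpre (hSC hx)
    obtain ⟨r, hr⟩ := hpre (hSC hy)
    rw [← hp, ← hr, ← map_mul, ← map_mul]
    refine congrArg f (qcomm p r (hfi ?_) (hfi ?_))
    · rw [map_mul, hp, map_one, htwo x hx]
    · rw [map_mul, hr, map_one, htwo y hy]
  haveI hSc : IsMulCommutative ↥(S : Subgroup G) :=
    ⟨⟨fun a b => Subtype.ext (hScomm a a.2 b b.2)⟩⟩
  -- fusion
  let v : alternatingGroup (Fin 4) → G := fun a => f (1, a)
  have hvC : ∀ a, v a ∈ C := fun a => hfr ▸ ⟨_, rfl⟩
  have hvS : ∀ a, a * a = 1 → v a ∈ (S : Subgroup G) := fun a ha => hmemS (hvC a) (by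
    rw [← map_mul, ← map_one f]; exact congrArg f (Prod.ext rfl ha))
  have hJv : IsConj J (v pA) := by
    obtain ⟨g, hg⟩ := s.exists_fused
    have hsq : e ⟨_, hg⟩ * e ⟨_, hg⟩ = 1 := by
      rw [← map_mul, MulEquiv.map_eq_one_iff]
      refine Subtype.ext ?_
      show g * J * g⁻¹ * (g * J * g⁻¹) = 1
      rw [show g * J * g⁻¹ * (g * J * g⁻¹) = g * (J * J) * g⁻¹ by group, s.J_sq]
      group
    have hne : e ⟨_, hg⟩ ≠ 1 := fun h => by
      rw [MulEquiv.map_eq_one_iff] at h
      exact s.J_ne (conj_eq_one_iff.1 (congrArg Subtype.val h))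
    obtain ⟨c, hc⟩ := qconj _ pA hsq hpA hne hpA1
    have e1 : v (e ⟨_, hg⟩) = g * J * g⁻¹ := by
      show f (1, e ⟨_, hg⟩) = _
      rw [hf2, e.symm_apply_apply]
    refine (isConj_iff.2 ⟨g, rfl⟩ : IsConj J _).trans (e1 ▸ isConj_iff.2 ⟨f (1, c), ?_⟩)
    show f (1, c) * f (1, e ⟨_, hg⟩) * (f (1, c))⁻¹ = f (1, pA)
    rw [← map_inv, ← map_mul, ← map_mul]
    exact congrArg f (Prod.ext (by simp) hc)
  have hvconj : ∀ a, a * a = 1 → a ≠ 1 → IsConj J (v a) := fun a ha ha1 => by
    obtain ⟨c, hc⟩ := qconj pA a hpA ha hpA1 ha1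
    refine hJv.trans (isConj_iff.2 ⟨f (1, c), ?_⟩)
    show f (1, c) * f (1, pA) * (f (1, c))⁻¹ = f (1, a)
    rw [← map_inv, ← map_mul, ← map_mul]
    exact congrArg f (Prod.ext (by simp) hc)
  have hJf : f (Multiplicative.ofAdd 1, 1) = J := by rw [hf1]; simp [pw]
  have hform : ∀ x ∈ (S : Subgroup G), ∃ a, a * a = 1 ∧ (x = v a ∨ x = J * v a) := fun x hx => by
    obtain ⟨⟨i, a⟩, rfl⟩ := hpre (hSC hx)
    have h2 : ((i, a) : M4) * (i, a) = 1 := hfi (by rw [map_mul, map_one]; exact htwo _ hx)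
    refine ⟨a, congrArg Prod.snd h2, ?_⟩
    by_cases hi : i = 1
    · left; rw [hi]
    · right
      rw [(zmod2_cases i 1).2 hi, ← hJf, show v a = f (1, a) from rfl, ← map_mul]
      simp
  have hall : ∀ x ∈ (S : Subgroup G), x ≠ 1 → IsConj J x := by
    intro x hx hx1
    obtain ⟨a, ha, hxa⟩ := hform x hx
    by_cases ha1 : a = 1
    · have hv1 : v a = 1 := by rw [ha1]; exact map_one f
      rcases hxa with e' | e' <;> rw [hv1] at e'
      · exact absurd e' hx1
      · rw [e', mul_one]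
    rcases hxa with rfl | rfl
    · exact hvconj a ha ha1
    by_contra hno
    -- the set of `J` and the three involutions of `T` is invariant under the normaliser
    obtain ⟨g, hg⟩ := isConj_iff.1 hJv
    obtain ⟨n, hn, hne⟩ := S.conj_eq_normalizer_conj_of_mem J g⁻¹ hJS
      (by rw [inv_inv, hg]; exact hvS pA hpA)
    rw [inv_inv, hg] at hne
    have hn' : n⁻¹ ∈ Subgroup.normalizer ((S : Subgroup G) : Set G) := inv_mem hn
    have hclass : ∀ b, b * b = 1 → b ≠ 1 → ¬ IsConj J (J * v b) := fun b hb hb1 hc => hno (by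
      obtain ⟨c, hc'⟩ := qconj b a hb ha hb1 ha1
      refine hc.trans (isConj_iff.2 ⟨f (1, c), ?_⟩)
      show f (1, c) * (J * f (1, b)) * (f (1, c))⁻¹ = J * f (1, a)
      rw [← hJf, ← map_mul, ← map_inv, ← map_mul, ← map_mul, ← map_mul]
      exact congrArg f (Prod.ext (by simp) (by simpa using hc')))
    have himg : ∀ b, b * b = 1 → b ≠ 1 → ∃ w, (w = J ∨ ∃ b', b' * b' = 1 ∧ b' ≠ 1 ∧ w = v b') ∧
        n⁻¹ * v b * n = w := by
      intro b hb hb1
      have hm : n⁻¹ * v b * n ∈ (S : Subgroup G) := by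
        have := (Subgroup.mem_normalizer_iff.1 hn' _).1 (hvS b hb)
        rwa [inv_inv] at this
      have hc : IsConj J (n⁻¹ * v b * n) := (hvconj b hb hb1).trans (isConj_iff.2 ⟨n⁻¹, by rw [inv_inv]⟩)
      obtain ⟨b', hb', hor⟩ := hform _ hm
      refine ⟨_, ?_, rfl⟩
      by_cases hb'1 : b' = 1
      · have hv1 : v b' = 1 := by rw [hb'1]; exact map_one f
        rcases hor with e' | e' <;> rw [hv1] at e'
        · rw [e', isConj_one_left] at hc
          exact absurd hc s.J_ne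
        · exact Or.inl (by rw [e', mul_one])
      rcases hor with e' | e'
      · exact Or.inr ⟨b', hb', hb'1, e'⟩
      · rw [e'] at hc
        exact absurd hc (hclass b' hb' hb'1)
    have hr : pA * qA ≠ 1 ∧ pA * qA ≠ pA ∧ pA * qA ≠ qA ∧ (pA * qA) * (pA * qA) = 1 := by
      have hc' : ((1, pA) : M4) * (1, qA) = (1, qA) * (1, pA) :=
        qcomm _ _ (Prod.ext rfl hpA) (Prod.ext rfl hqA)
      have hc : pA * qA = qA * pA := congrArg Prod.snd hc'
      refine ⟨fun h => hpq ?_, fun h => hqA1 (mul_eq_left.1 h), fun h => hpA1 (mul_eq_right.1 h), ?_⟩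
      · calc pA = pA * (qA * qA) := by rw [hqA, mul_one]
          _ = qA := by rw [← mul_assoc, h, one_mul]
      · rw [mul_assoc, ← mul_assoc qA, ← hc, ← mul_assoc, ← mul_assoc, hpA, one_mul, hqA]
    obtain ⟨hr1, hr2, hr3, hr4⟩ := hr
    obtain ⟨w1, hw1, e1⟩ := himg pA hpA hpA1
    obtain ⟨w2, hw2, e2⟩ := himg qA hqA hqA1
    obtain ⟨w3, hw3, e3⟩ := himg _ hr4 hr1
    have hJimg : n⁻¹ * J * n = v pA := hne.symm
    have hinj : ∀ {a b : G}, n⁻¹ * a * n = n⁻¹ * b * n → a = b := fun h => mul_left_cancel (mul_right_cancel h)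
    have hvinj : ∀ {a b}, v a = v b → a = b := fun h => congrArg Prod.snd (hfi h)
    have hJne : ∀ b, v b ≠ J := fun b h => s.J_notMem (by
      rw [← h]; show f (1, b) ∈ T; rw [hf2]; exact (e.symm b).2)
    have hprod : n⁻¹ * v pA * n * (n⁻¹ * v qA * n) = n⁻¹ * v (pA * qA) * n := by
      rw [show v (pA * qA) = v pA * v qA by
        show f (1, pA * qA) = f (1, pA) * f (1, qA); rw [← map_mul]; simp]
      group
    rw [e1, e2, e3] at hprod
    -- the four images are distinct, so one of the last three is `J`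
    have hT' : ∀ w, (∃ b', b' * b' = 1 ∧ b' ≠ 1 ∧ w = v b') → w ∈ T := by
      rintro w ⟨b, -, -, rfl⟩
      show f (1, b) ∈ T
      rw [hf2]
      exact (e.symm b).2
    rcases hw1 with rfl | h1
    · have h2 : w2 ∈ T := by
        rcases hw2 with rfl | h
        · exact absurd (hvinj (hinj (e1.trans e2.symm))) hpq
        · exact hT' _ h
      have h3 : w3 ∈ T := by
        rcases hw3 with rfl | h
        · exact absurd (hvinj (hinj (e1.trans e3.symm))) (Ne.symm hr2)
        · exact hT' _ h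
      refine s.J_notMem ?_
      have := mul_mem h3 (inv_mem h2)
      rwa [← hprod, mul_inv_cancel_right] at this
    rcases hw2 with rfl | h2
    · have h3 : w3 ∈ T := by
        rcases hw3 with rfl | h
        · exact absurd (hvinj (hinj (e2.trans e3.symm))) (Ne.symm hr3)
        · exact hT' _ h
      refine s.J_notMem ?_
      have := mul_mem (inv_mem (hT' _ h1)) h3
      rwa [← hprod, inv_mul_cancel_left] at this
    rcases hw3 with rfl | h3
    · exact s.J_notMem (hprod ▸ mul_mem (hT' _ h1) (hT' _ h2))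
    -- three distinct involutions of `T` and none of them the image of `J`
    obtain ⟨b1, k1, l1, rfl⟩ := h1
    obtain ⟨b2, k2, l2, rfl⟩ := h2
    obtain ⟨b3, k3, l3, rfl⟩ := h3
    have d12 : b1 ≠ b2 := fun h => hpq (hvinj (hinj (e1.trans ((congrArg v h).trans e2.symm))))
    have d13 : b1 ≠ b3 := fun h => hr2 (hvinj (hinj (e3.trans ((congrArg v h).symm.trans e1.symm))))
    have d23 : b2 ≠ b3 := fun h => hr3 (hvinj (hinj (e3.trans ((congrArg v h).symm.trans e2.symm))))
    have hsub : pA = b1 ∨ pA = b2 ∨ pA = b3 := by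
      by_contra hne
      rw [not_or, not_or] at hne
      have x1 := qthree pA b1 b2 hpA k1 k2 hpA1 l1 l2 hne.1 hne.2.1 d12
      have x2 := qthree b1 b2 b3 k1 k2 k3 l1 l2 l3 d12 d13 d23
      have : pA * b1 * b2 = b1 * b2 * b3 := x1.trans x2.symm
      have hc1 : b1 * b2 * b3 = b3 * b1 * b2 := by
        rw [x2]; exact (qthree b3 b1 b2 k3 k1 k2 l3 l1 l2 (Ne.symm d13) (Ne.symm d23) d12).symm
      rw [hc1] at this
      exact hne.2.2 (mul_right_cancel (mul_right_cancel this))
    rcases hsub with h | h | h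
    · exact hJne _ (hinj (e1.trans ((congrArg v h).symm.trans hJimg.symm)))
    · exact hJne _ (hinj (e2.trans ((congrArg v h).symm.trans hJimg.symm)))
    · exact hJne _ (hinj (e3.trans ((congrArg v h).symm.trans hJimg.symm)))
  have hinvol : ∀ x : G, x * x = 1 → x ≠ 1 → IsConj J x := by
    intro x hx hx1
    obtain ⟨i, -, hi⟩ := (Nat.dvd_prime_pow Nat.prime_two).1
      (orderOf_dvd_of_pow_eq_one (x := x) (n := 2 ^ 1) (by rw [pow_one, pow_two, hx]))
    obtain ⟨g, -, hg⟩ := WeakJ1.sylow_conj_into S (H := ⊤) le_top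
      (IsPGroup.of_card (n := i) (by rw [Nat.card_zpowers, hi]) : IsPGroup 2 (Subgroup.zpowers x)) le_top
    refine (hall _ (hg x (Subgroup.mem_zpowers x)) fun h => hx1 ?_).trans
      (isConj_iff.2 ⟨g, by group⟩ : IsConj (g⁻¹ * x * g) x)
    calc x = g * (g⁻¹ * x * g) * g⁻¹ := by group
      _ = 1 := by rw [h]; group
  -- subgroups of odd order normalised by `S`
  have hoddtriv : ∀ R : Subgroup G, ¬ 2 ∣ Nat.card R → (∀ y ∈ (S : Subgroup G), ∀ r ∈ R, y * r * y⁻¹ ∈ R) → R = ⊥ := by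
    intro R hR hnorm
    have hfix : ∀ y ∈ (S : Subgroup G), y ≠ 1 → ∀ r ∈ R, y * r * y⁻¹ = r → r = 1 := by
      intro y hy hy1 r hr hyr
      obtain ⟨g, hg⟩ := isConj_iff.1 (hall y hy hy1)
      have hc : (g⁻¹ * r * g) * J = J * (g⁻¹ * r * g) := by
        have := WeakJ1.conj_comm (g := g⁻¹) (mul_inv_eq_iff_eq_mul.1 hyr).symm
        rwa [inv_inv, ← hg, show g⁻¹ * (g * J * g⁻¹) * g = J by group] at this
      obtain ⟨p, hp⟩ := hpre (Subgroup.mem_centralizer_singleton_iff.2 hc)
      have ho : orderOf p ∣ 3 := by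
        have h6 := orderOf_dvd_of_pow_eq_one (q6 p)
        have hod : ¬ 2 ∣ orderOf p := fun h => hR (h.trans (by
          rw [← orderOf_injective f hfi p, hp]
          have e' : orderOf (g⁻¹ * r * g) = orderOf r := by
            have := orderOf_injective (MulAut.conj g⁻¹).toMonoidHom (MulAut.conj g⁻¹).injective r
            simpa using this
          rw [e']
          exact R.orderOf_dvd_natCard hr))
        exact (Nat.Coprime.dvd_of_dvd_mul_left ((Nat.prime_two.coprime_iff_not_dvd.2 hod).symm) (h6 : _ ∣ 2 * 3))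
      have h3 : p * p * p = 1 := by
        rw [← orderOf_dvd_iff_pow_eq_one.1 ho, pow_succ, pow_two]
      have hp1 : p = 1 := qfix p h3 fun w hw => hfi (by
        rw [map_mul, map_mul, hp]
        have hwS : f w ∈ (S : Subgroup G) := hmemS (hfr ▸ ⟨w, rfl⟩) (by rw [← map_mul, hw, map_one])
        -- the commutator is an involution of the Sylow subgroup and of odd order
        set z := g * f w * g⁻¹
        have hzC : z * y = y * z := by
          rw [← hg]; exact WeakJ1.conj_comm (hScomm _ hwS J hJS)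
        suffices z * r = r * z by
          have := WeakJ1.conj_comm (g := g⁻¹) this.symm
          rwa [inv_inv, show g⁻¹ * (g * f w * g⁻¹) * g = f w by group] at this
        have hzS : z ∈ (S : Subgroup G) := by
          have hcy : ∀ t ∈ (S : Subgroup G), g⁻¹ * t * g ∈ (S : Subgroup G) := fun t ht => by
            refine hmemS (Subgroup.mem_centralizer_singleton_iff.2 ?_) ?_
            · have := WeakJ1.conj_comm (g := g⁻¹) (hScomm t ht y hy)
              rwa [inv_inv, ← hg, show g⁻¹ * (g * J * g⁻¹) * g = J by group] at this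
            · rw [show g⁻¹ * t * g * (g⁻¹ * t * g) = g⁻¹ * (t * t) * g by group, htwo t ht]
              group
          have hn : g⁻¹ ∈ Subgroup.normalizer ((S : Subgroup G) : Set G) :=
            WeakJ1.normalizer_of_le _ fun t ht => by rw [inv_inv]; exact hcy t ht
          exact (Subgroup.mem_normalizer_iff.1 (inv_inv g ▸ inv_mem hn) _).1 hwS
        have hm : z * r * z⁻¹ * r⁻¹ ∈ R := mul_mem (hnorm z hzS r hr) (inv_mem hr)
        by_contra hne
        apply hR
        have hC1 : g⁻¹ * (z * r * z⁻¹ * r⁻¹) * g = f w * f p * (f w)⁻¹ * (f p)⁻¹ := by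
          simp only [z]; rw [hp]; group
        obtain ⟨hfst, hA⟩ := comm_facts
        have hsq' : (w * p * w⁻¹ * p⁻¹) * (w * p * w⁻¹ * p⁻¹) = 1 :=
          Prod.ext (by
              show (w.1 * p.1 * w.1⁻¹ * p.1⁻¹) * (w.1 * p.1 * w.1⁻¹ * p.1⁻¹) = 1
              rw [hfst, one_mul])
            (hA w.2 p.2 (congrArg Prod.snd hw))
        have hsq2 : (z * r * z⁻¹ * r⁻¹) * (z * r * z⁻¹ * r⁻¹) = 1 := by
          have := congrArg f hsq'
          simp only [map_mul, map_inv, map_one] at this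
          rw [← hC1] at this
          calc (z * r * z⁻¹ * r⁻¹) * (z * r * z⁻¹ * r⁻¹)
              = g * (g⁻¹ * (z * r * z⁻¹ * r⁻¹) * g * (g⁻¹ * (z * r * z⁻¹ * r⁻¹) * g)) * g⁻¹ := by group
            _ = 1 := by rw [this]; group
        have ho2 : orderOf (⟨_, hm⟩ : R) = 2 := orderOf_eq_prime (Subtype.ext (by
          rw [Subgroup.coe_pow, pow_two]; exact hsq2)) (fun h => hne (by
            have := congrArg Subtype.val h
            exact mul_inv_eq_iff_eq_mul.1 (mul_inv_eq_one.1 this)))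
        exact (dvd_of_eq ho2.symm).trans (orderOf_dvd_natCard _))
      rw [hp1, map_one] at hp
      calc r = g * (g⁻¹ * r * g) * g⁻¹ := by group
        _ = 1 := by rw [← hp]; group
    rw [eq_bot_iff]
    intro r hr
    rw [Subgroup.mem_bot]
    have hinv : ∀ y ∈ (S : Subgroup G), y ≠ 1 → y * r * y⁻¹ = r⁻¹ := by
      intro y hy hy1
      let φ : R →* R := ((MulAut.conj y).toMonoidHom.comp R.subtype).codRestrict R fun a => hnorm y hy a a.2
      have h1 : MonoidHom.FixedPointFree φ := fun a ha =>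
        Subtype.ext (hfix y hy hy1 a a.2 (congrArg Subtype.val ha))
      have h2 : Function.Involutive φ := fun a => Subtype.ext (by
        show y * (y * (a : G) * y⁻¹) * y⁻¹ = a
        rw [show y * (y * (a : G) * y⁻¹) * y⁻¹ = (y * y) * a * (y * y)⁻¹ by group, htwo y hy]
        group)
      exact congrArg Subtype.val (congrFun (MonoidHom.FixedPointFree.coe_eq_inv_of_involutive h1 h2) ⟨r, hr⟩)
    have hvp := hvS pA hpA
    have hvp1 : v pA ≠ 1 := fun h => hpA1 (congrArg Prod.snd (hfi (h.trans (map_one f).symm)))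
    have hJv1 : J * v pA ≠ 1 := fun h => s.J_notMem (by
      have e1 : J = (v pA)⁻¹ := eq_inv_of_mul_eq_one_left h
      rw [e1]
      show (f (1, pA))⁻¹ ∈ T
      rw [hf2]
      exact inv_mem (e.symm pA).2)
    refine hfix _ (mul_mem hJS hvp) hJv1 r hr ?_
    calc J * v pA * r * (J * v pA)⁻¹ = J * (v pA * r * (v pA)⁻¹) * J⁻¹ := by group
      _ = (J * r * J⁻¹)⁻¹ := by rw [hinv _ hvp hvp1]; group
      _ = r := by rw [hinv _ hJS s.J_ne, inv_inv]
  -- centralisers of involutions are soluble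
  haveI hsol4 : Group.IsSolvable M4 := by
    haveI : Group.IsSolvable (Perm (Fin 4)) := OrderType.s4_solvable
    infer_instance
  have hsolC : ∀ x : G, x * x = 1 → x ≠ 1 → Group.IsSolvable (Subgroup.centralizer ({x} : Set G)) := by
    intro x hx hx1
    obtain ⟨g, hg⟩ := isConj_iff.1 (hinvol x hx hx1)
    let φ : M4 →* Subgroup.centralizer ({x} : Set G) := ((MulAut.conj g).toMonoidHom.comp f).codRestrict _ fun p =>
      Subgroup.mem_centralizer_singleton_iff.2 (hg ▸ WeakJ1.conj_comm (Subgroup.mem_centralizer_singleton_iff.1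
        (show f p ∈ C from hfr ▸ ⟨p, rfl⟩)))
    refine solvable_of_surjective (f := φ) fun y => ?_
    have hy := WeakJ1.conj_comm (g := g⁻¹) (Subgroup.mem_centralizer_singleton_iff.1 y.2)
    have hgx : g⁻¹ * x * g = J := (congrArg (fun z => g⁻¹ * z * g) hg).symm.trans (by group)
    rw [inv_inv, hgx] at hy
    obtain ⟨p, hp⟩ := hpre (Subgroup.mem_centralizer_singleton_iff.2 hy)
    refine ⟨p, Subtype.ext ?_⟩
    show g * f p * g⁻¹ = y
    rw [hp]
    group
  -- a minimal normal subgroup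
  obtain ⟨N, ⟨hNn, hNbot⟩, hNmin⟩ : ∃ N : Subgroup G, (N.Normal ∧ N ≠ ⊥) ∧
      ∀ R : Subgroup G, R.Normal → R ≠ ⊥ → R ≤ N → R = N := by
    have hne : {R : Subgroup G | R.Normal ∧ R ≠ ⊥}.Nonempty :=
      ⟨⊤, inferInstance, fun h => s.J_ne (Subgroup.mem_bot.1 (h ▸ Subgroup.mem_top J))⟩
    obtain ⟨N, hN, hmin⟩ := Set.Finite.exists_minimal (Set.toFinite _) hne
    exact ⟨N, hN, fun R h1 h2 h3 => le_antisymm h3 (hmin ⟨h1, h2⟩ h3)⟩
  have heven : 2 ∣ Nat.card N := by
    by_contra h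
    exact hNbot (hoddtriv N h fun y _ r hr => hNn.conj_mem r hr y)
  have hJN : J ∈ N := by
    obtain ⟨⟨x, hxN⟩, hx⟩ := exists_prime_orderOf_dvd_card' 2 heven
    rw [← Subgroup.orderOf_coe] at hx
    obtain ⟨g, hg⟩ := isConj_iff.1 (hinvol x (by rw [← pow_two, ← hx, pow_orderOf_eq_one])
      (fun h => by subst h; exact absurd (hx.symm.trans orderOf_one) (by norm_num)))
    have := hNn.conj_mem x hxN g⁻¹
    rwa [inv_inv, ← hg, show g⁻¹ * (g * J * g⁻¹) * g = J by group] at this
  have hSN : (S : Subgroup G) ≤ N := fun x hx => by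
    by_cases hx1 : x = 1
    · rw [hx1]; exact one_mem N
    obtain ⟨g, rfl⟩ := isConj_iff.1 (hall x hx hx1)
    exact hNn.conj_mem J hJN g
  have hSnn : ¬ (S : Subgroup G).Normal := by
    intro hSn
    apply s.hns
    have hcG : Nat.card (G ⧸ (S : Subgroup G)) = 21 := by
      have h1 : (Subgroup.centralizer ({J} : Set G)).index = 7 := by
        have h2 := Char.card_isConj_eq_index J
        have hset : {y : G | IsConj J y} = ((S : Subgroup G) : Set G) \ {1} := by
          ext y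
          constructor
          · intro hy
            obtain ⟨g, rfl⟩ := isConj_iff.1 hy
            exact ⟨hSn.conj_mem J hJS g, fun h => s.J_ne (conj_eq_one_iff.1 h)⟩
          · intro hy
            exact hall y hy.1 hy.2
        have h4 : Nat.card {y : G // IsConj J y} = 7 := by
          show ({y : G | IsConj J y} : Set G).ncard = 7
          rw [hset, Set.ncard_sdiff (Set.singleton_subset_iff.2 (one_mem _)), Set.ncard_singleton,
            ← Nat.card_coe_set_eq]
          show Nat.card (S : Subgroup G) - 1 = 7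
          rw [hS8]
        omega
      have h5 := C.card_mul_index
      rw [hcC, h1] at h5
      have h6 := (S : Subgroup G).card_mul_index
      rw [hS8, ← h5] at h6
      rw [← Subgroup.index_eq_card]
      omega
    haveI := hSn
    haveI : Fact (Nat.Prime 3) := ⟨Nat.prime_three⟩
    obtain ⟨K, hK, hKc⟩ := WeakJ1.exists_complement (R := G ⧸ (S : Subgroup G)) (p := 3)
      (by rw [hcG]; norm_num) (by rw [hcG]; norm_num)
    rw [hcG] at hKc
    have hK7 : Nat.card K = 7 := by omega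
    haveI := Fact.mk (show Nat.Prime 7 by norm_num)
    haveI : Group.IsSolvable (G ⧸ (S : Subgroup G)) := by
      haveI : IsCyclic K := isCyclic_of_prime_card hK7
      haveI : Group.IsSolvable K := isSolvable_of_comm fun a b => IsCyclic.commGroup.mul_comm a b
      have hq : Nat.card ((G ⧸ (S : Subgroup G)) ⧸ K) = 3 := by
        rw [← Subgroup.index_eq_card]
        have := K.card_mul_index
        rw [hK7, hcG] at this
        omega
      haveI : IsCyclic ((G ⧸ (S : Subgroup G)) ⧸ K) := isCyclic_of_prime_card hq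
      haveI : Group.IsSolvable ((G ⧸ (S : Subgroup G)) ⧸ K) :=
        isSolvable_of_comm fun a b => IsCyclic.commGroup.mul_comm a b
      exact solvable_of_ker_le_range K.subtype (QuotientGroup.mk' K)
        (by rw [QuotientGroup.ker_mk', Subgroup.range_subtype])
    haveI : Group.IsSolvable (S : Subgroup G) := isSolvable_of_comm fun a b => Subtype.ext (hScomm a a.2 b b.2)
    exact solvable_of_ker_le_range (S : Subgroup G).subtype (QuotientGroup.mk' (S : Subgroup G))
      (by rw [QuotientGroup.ker_mk', Subgroup.range_subtype])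
  have hNS : ¬ N ≤ (S : Subgroup G) := fun h => hSnn (le_antisymm h hSN ▸ hNn)
  have hnoS : ∀ R : Subgroup G, R ≤ N → R ≤ (S : Subgroup G) → (∀ k ∈ N, ∀ r ∈ R, k * r * k⁻¹ ∈ R) →
      R = ⊥ := by
    intro R hRN hRS hRn
    by_contra hne
    -- the conjugates of `R` are normal 2-subgroups of `N`
    have hsub : ∀ g : G, ∀ r ∈ R, g * r * g⁻¹ ∈ (S : Subgroup G) := by
      intro g r hr
      set R' := R.map (MulAut.conj g).toMonoidHom with hR'
      have hp : IsPGroup 2 R' := (S.isPGroup'.to_le hRS).map _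
      have hnorm : (S : Subgroup G) ≤ Subgroup.normalizer (R' : Set G) := fun k hk =>
        WeakJ1.normalizer_of_le _ fun z hz => by
          obtain ⟨r', hr', rfl⟩ := hz
          refine ⟨(g⁻¹ * k * g) * r' * (g⁻¹ * k * g)⁻¹, hRn _ ?_ r' hr', ?_⟩
          · have := hNn.conj_mem k (hSN hk) g⁻¹
            rwa [inv_inv] at this
          · show g * ((g⁻¹ * k * g) * r' * (g⁻¹ * k * g)⁻¹) * g⁻¹ = k * (g * r' * g⁻¹) * k⁻¹
            group
      have := S.is_maximal' (S.isPGroup'.to_sup_of_normal_right' hp hnorm) le_sup_left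
      exact this ▸ Subgroup.mem_sup_right (Subgroup.mem_map_of_mem _ hr)
    have hncl : Subgroup.normalClosure (R : Set G) ≤ (S : Subgroup G) := (Subgroup.closure_le _).2 fun x hx => by
      obtain ⟨r, hr, hc⟩ := Group.mem_conjugatesOfSet_iff.1 hx
      obtain ⟨g, rfl⟩ := isConj_iff.1 hc
      exact hsub g r hr
    have := hNmin _ Subgroup.normalClosure_normal
      (fun h => hne (eq_bot_iff.2 (h ▸ Subgroup.subset_normalClosure)))
      (Subgroup.normalClosure_le_normal hRN)
    exact hNS (this ▸ hncl)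
  -- simplicity
  haveI := hNn
  haveI hNnt : Nontrivial N := ⟨⟨⟨J, hJN⟩, 1, fun h => s.J_ne (congrArg Subtype.val h)⟩⟩
  haveI hsimple : IsSimpleGroup N := by
    refine ⟨fun R hR => ?_⟩
    by_contra hcon
    rw [not_or] at hcon
    set R' := R.map N.subtype with hR'
    have hR'N : R' ≤ N := Subgroup.map_subtype_le _
    have hR'n : ∀ k ∈ N, ∀ r ∈ R', k * r * k⁻¹ ∈ R' := by
      rintro k hk r ⟨a, ha, rfl⟩
      exact ⟨⟨k, hk⟩ * a * ⟨k, hk⟩⁻¹, hR.conj_mem a ha _, rfl⟩
    have hR'ne : R' ≠ ⊥ := fun h => hcon.1 ((Subgroup.map_eq_bot_iff_of_injective _ N.subtype_injective).1 h)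
    have hRn : ¬ R'.Normal := fun h => hcon.2 (by
      rw [← Subgroup.comap_map_eq_self_of_injective N.subtype_injective R, ← hR', hNmin R' h hR'ne hR'N]
      exact Subgroup.subgroupOf_self N)
    -- two distinct conjugates
    obtain ⟨g, r0, hr0, hgr0⟩ : ∃ g, ∃ r ∈ R', g * r * g⁻¹ ∉ R' := by
      by_contra h
      push Not at h
      exact hRn ⟨fun r hr g => h g r hr⟩
    set R2 := R'.map (MulAut.conj g).toMonoidHom with hR2
    have hR2n : ∀ k ∈ N, ∀ r ∈ R2, k * r * k⁻¹ ∈ R2 := by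
      rintro k hk _ ⟨a, ha, rfl⟩
      refine ⟨(g⁻¹ * k * g) * a * (g⁻¹ * k * g)⁻¹, hR'n _ ?_ a ha, ?_⟩
      · have := hNn.conj_mem k hk g⁻¹
        rwa [inv_inv] at this
      · show g * ((g⁻¹ * k * g) * a * (g⁻¹ * k * g)⁻¹) * g⁻¹ = k * (g * a * g⁻¹) * k⁻¹
        group
    -- an intersection normal in `N`
    have hmax : ∀ A B : Subgroup G, A ≤ N → B ≤ N → (∀ k ∈ N, ∀ r ∈ A, k * r * k⁻¹ ∈ A) →
        (∀ k ∈ N, ∀ r ∈ B, k * r * k⁻¹ ∈ B) → A ⊓ B = ⊥ → B ≠ ⊥ → A = ⊥ := by
      intro A B hA hB hAn hBn hAB hBne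
      by_contra hAne
      have hev : 2 ∣ Nat.card B := by
        by_contra h
        exact hBne (hoddtriv B h fun y hy r hr => hBn y (hSN hy) r hr)
      obtain ⟨⟨b, hb⟩, hob⟩ := exists_prime_orderOf_dvd_card' 2 hev
      rw [← Subgroup.orderOf_coe] at hob
      have hb2 : b * b = 1 := by rw [← pow_two, ← hob, pow_orderOf_eq_one]
      have hb1 : b ≠ 1 := fun h => by subst h; exact absurd (hob.symm.trans orderOf_one) (by norm_num)
      have hAc : A ≤ Subgroup.centralizer ({b} : Set G) := fun a ha => by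
        refine Subgroup.mem_centralizer_singleton_iff.2 ?_
        have hm : a * b * a⁻¹ * b⁻¹ ∈ A ⊓ B := Subgroup.mem_inf.2 ⟨by
          have := A.mul_mem ha (hAn b (hB hb) a⁻¹ (A.inv_mem ha))
          rwa [show a * (b * a⁻¹ * b⁻¹) = a * b * a⁻¹ * b⁻¹ by group] at this,
          B.mul_mem (hBn a (hA ha) b hb) (B.inv_mem hb)⟩
        rw [hAB, Subgroup.mem_bot] at hm
        exact mul_inv_eq_iff_eq_mul.1 (mul_inv_eq_one.1 hm)
      -- the involutions of `A` form a normal subgroup of `N`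
      obtain ⟨h0, hh0⟩ := isConj_iff.1 (hinvol b hb2 hb1)
      have hcomm : ∀ x ∈ A, ∀ y ∈ A, x * x = 1 → y * y = 1 → x * y = y * x := by
        intro x hx y hy hx2 hy2
        have conv : ∀ z ∈ A, ∃ p, f p = h0⁻¹ * z * h0 := fun z hz => hpre (by
          have := WeakJ1.conj_comm (g := h0⁻¹) (Subgroup.mem_centralizer_singleton_iff.1 (hAc hz))
          rw [inv_inv, ← hh0, show h0⁻¹ * (h0 * J * h0⁻¹) * h0 = J by group] at this
          exact Subgroup.mem_centralizer_singleton_iff.2 this)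
        obtain ⟨p, hp⟩ := conv x hx
        obtain ⟨q, hq⟩ := conv y hy
        have hp2 : p * p = 1 := hfi (by
          rw [map_mul, map_one, hp, show h0⁻¹ * x * h0 * (h0⁻¹ * x * h0) = h0⁻¹ * (x * x) * h0 by group, hx2]
          group)
        have hq2 : q * q = 1 := hfi (by
          rw [map_mul, map_one, hq, show h0⁻¹ * y * h0 * (h0⁻¹ * y * h0) = h0⁻¹ * (y * y) * h0 by group, hy2]
          group)
        have := congrArg f (qcomm p q hp2 hq2)
        rw [map_mul, map_mul, hp, hq] at this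
        calc x * y = h0 * (h0⁻¹ * x * h0 * (h0⁻¹ * y * h0)) * h0⁻¹ := by group
          _ = h0 * (h0⁻¹ * y * h0 * (h0⁻¹ * x * h0)) * h0⁻¹ := by rw [this]
          _ = y * x := by group
      let O : Subgroup G :=
        { carrier := {x | x ∈ A ∧ x * x = 1}
          one_mem' := ⟨one_mem A, one_mul 1⟩
          mul_mem' := fun {x y} hx hy => ⟨mul_mem hx.1 hy.1, by
            have e' := hcomm x hx.1 y hy.1 hx.2 hy.2
            calc x * y * (x * y) = x * (y * x) * y := by group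
              _ = (x * x) * (y * y) := by rw [← e']; group
              _ = 1 := by rw [hx.2, hy.2, one_mul]⟩
          inv_mem' := fun {x} hx => ⟨inv_mem hx.1, by rw [← mul_inv_rev, hx.2, inv_one]⟩ }
      have hOn : ∀ k ∈ N, ∀ r ∈ O, k * r * k⁻¹ ∈ O := fun k hk r hr => ⟨hAn k hk r hr.1, by
        rw [show k * r * k⁻¹ * (k * r * k⁻¹) = k * (r * r) * k⁻¹ by group, hr.2]; group⟩
      have hOp : IsPGroup 2 O := fun x => ⟨1, Subtype.ext (by
        rw [Subgroup.coe_pow, pow_one, pow_two]; exact x.2.2)⟩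
      have hnorm : (S : Subgroup G) ≤ Subgroup.normalizer (O : Set G) := fun k hk =>
        WeakJ1.normalizer_of_le _ fun z hz => hOn k (hSN hk) z hz
      have hOS : O ≤ (S : Subgroup G) := by
        have := S.is_maximal' (S.isPGroup'.to_sup_of_normal_right' hOp hnorm) le_sup_left
        exact this ▸ le_sup_right
      have hO := hnoS O (fun x hx => hA hx.1) hOS hOn
      have hodd : ¬ 2 ∣ Nat.card A := fun h => by
        obtain ⟨⟨a, ha⟩, hoa⟩ := exists_prime_orderOf_dvd_card' 2 h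
        rw [← Subgroup.orderOf_coe] at hoa
        have hm : a ∈ O := ⟨ha, by rw [← pow_two, ← hoa, pow_orderOf_eq_one]⟩
        rw [hO, Subgroup.mem_bot] at hm
        subst hm
        exact absurd (hoa.symm.trans orderOf_one) (by norm_num)
      exact hAne (hoddtriv A hodd fun y hy r hr => hAn y (hSN hy) r hr)
    -- descend to a subgroup meeting its conjugate trivially
    obtain ⟨M0, ⟨hM0N, hM0n, hM0ne⟩, hM0min⟩ : ∃ A : Subgroup G,
        (A ≤ R' ∧ (∀ k ∈ N, ∀ r ∈ A, k * r * k⁻¹ ∈ A) ∧ A ≠ ⊥) ∧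
        ∀ B : Subgroup G, B ≤ A → (∀ k ∈ N, ∀ r ∈ B, k * r * k⁻¹ ∈ B) → B ≠ ⊥ → B = A := by
      have hne : {A : Subgroup G | A ≤ R' ∧ (∀ k ∈ N, ∀ r ∈ A, k * r * k⁻¹ ∈ A) ∧ A ≠ ⊥}.Nonempty :=
        ⟨R', le_rfl, hR'n, hR'ne⟩
      obtain ⟨A, hA, hmin⟩ := Set.Finite.exists_minimal (Set.toFinite _) hne
      exact ⟨A, hA, fun B h1 h2 h3 => le_antisymm h1 (hmin ⟨h1.trans hA.1, h2, h3⟩ h1)⟩
    have hMN := hM0N.trans hR'N
    have hMnn : ¬ M0.Normal := fun h => hRn (by
      have := hNmin M0 h hM0ne hMN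
      have e' : R' = N := le_antisymm hR'N (this ▸ hM0N)
      exact e' ▸ hNn)
    obtain ⟨g', r', hr', hgr'⟩ : ∃ g, ∃ r ∈ M0, g * r * g⁻¹ ∉ M0 := by
      by_contra h
      push Not at h
      exact hMnn ⟨fun r hr g => h g r hr⟩
    set B := M0.map (MulAut.conj g').toMonoidHom with hB
    have hBn : ∀ k ∈ N, ∀ r ∈ B, k * r * k⁻¹ ∈ B := by
      rintro k hk _ ⟨a, ha, rfl⟩
      refine ⟨(g'⁻¹ * k * g') * a * (g'⁻¹ * k * g')⁻¹, hM0n _ ?_ a ha, ?_⟩
      · have := hNn.conj_mem k hk g'⁻¹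
        rwa [inv_inv] at this
      · show g' * ((g'⁻¹ * k * g') * a * (g'⁻¹ * k * g')⁻¹) * g'⁻¹ = k * (g' * a * g'⁻¹) * k⁻¹
        group
    have hBN : B ≤ N := by
      rintro _ ⟨a, ha, rfl⟩
      exact hNn.conj_mem a (hMN ha) g'
    have hBne : B ≠ ⊥ := fun h =>
      hM0ne ((Subgroup.map_eq_bot_iff_of_injective _ (MulAut.conj g').injective).1 h)
    have hint : M0 ⊓ B = ⊥ := by
      by_contra h
      have e' := hM0min (M0 ⊓ B) inf_le_left
        (fun k hk r hr => ⟨hM0n k hk r hr.1, hBn k hk r hr.2⟩) h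
      have hle : M0 ≤ B := e' ▸ inf_le_right
      have heq := Subgroup.eq_of_le_of_card_ge hle
        (Subgroup.card_map_of_injective (MulAut.conj g').injective).le
      exact hgr' (heq ▸ ⟨r', hr', rfl⟩)
    exact hM0ne (hmax M0 B hMN hBN hM0n hBn hint hBne)
  -- the centraliser in `N`
  let SN : Sylow 2 N := S.subtype hSN
  have hSN' : (SN : Subgroup N) = (S : Subgroup G).subgroupOf N := rfl
  have hSN8 : Nat.card (SN : Subgroup N) = 8 := by
    rw [hSN', Nat.card_congr (Subgroup.subgroupOfEquivOfLe hSN).toEquiv, hS8]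
  have hSNel : Cfsg.IsElementaryAbelian 2 (SN : Subgroup N) :=
    ⟨⟨⟨fun a b => Subtype.ext (Subtype.ext (hScomm _ a.2 _ b.2))⟩⟩,
      fun a ha => Subtype.ext (by rw [Subgroup.coe_pow, pow_two]; exact htwo _ ha)⟩
  have hNnc : ¬ IsMulCommutative N := by
    intro h
    refine hNS fun x hx => ?_
    have hc : ∀ y ∈ N, x * y = y * x := fun y hy =>
      congrArg Subtype.val (h.is_comm.comm (⟨x, hx⟩ : N) ⟨y, hy⟩)
    have hp : ∀ k ∈ (S : Subgroup G), x * k * x⁻¹ = k := fun k hk => by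
      rw [hc k (hSN hk), mul_inv_cancel_right]
    have hxC : x ∈ C := Subgroup.mem_centralizer_singleton_iff.2 (hc J hJN)
    obtain ⟨p, rfl⟩ := hpre hxC
    have h6 : p * p = 1 := by
      have h3 : ((p * p) : M4) * (p * p) * (p * p) = 1 := by
        have := q6 p
        rw [pow_succ, pow_succ, pow_succ, pow_succ, pow_succ, pow_succ, pow_zero, one_mul] at this
        simpa [mul_assoc] using this
      refine qfix _ h3 fun w hw => hfi ?_
      have hwS : f w ∈ (S : Subgroup G) := hmemS (hfr ▸ ⟨w, rfl⟩) (by rw [← map_mul, hw, map_one])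
      simp only [map_mul]
      rw [mul_assoc, hc _ (hSN hwS), ← mul_assoc, hc _ (hSN hwS), mul_assoc]
    exact hmemS (hfr ▸ ⟨p, rfl⟩) (by rw [← map_mul, h6, map_one])
  have hsolN : ∀ t : N, orderOf t = 2 → Group.IsSolvable (Subgroup.centralizer ({t} : Set N)) := by
    intro t ht
    have h2 : (t : G) * t = 1 := by
      rw [← pow_two, ← ht, ← Subgroup.coe_pow, pow_orderOf_eq_one, Subgroup.coe_one]
    have h1 : (t : G) ≠ 1 := fun h => by
      rw [show t = 1 from Subtype.ext h, orderOf_one] at ht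
      omega
    haveI := hsolC _ h2 h1
    let φ : Subgroup.centralizer ({t} : Set N) →* Subgroup.centralizer ({(t : G)} : Set G) :=
      (N.subtype.comp (Subgroup.centralizer ({t} : Set N)).subtype).codRestrict _ fun y =>
        Subgroup.mem_centralizer_singleton_iff.2
          (congrArg Subtype.val (Subgroup.mem_centralizer_singleton_iff.1 y.2) :)
    exact solvable_of_solvable_injective (f := φ) fun a b h =>
      Subtype.ext (Subtype.ext (congrArg Subtype.val h :))
  have h7 := S3189.result hNnc SN hSNel hSN8 hsolN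
  have hCN : ∀ x ∈ N, x * J = J * x → x ∈ (S : Subgroup G) := by
    intro x hxN hxJ
    obtain ⟨p, rfl⟩ := hpre (Subgroup.mem_centralizer_singleton_iff.2 hxJ)
    have hnormS : ∀ y : M4, f y ∈ Subgroup.normalizer ((S : Subgroup G) : Set G) := fun y =>
      WeakJ1.normalizer_of_le _ fun k hk => hmemS
        (mul_mem (mul_mem (hfr ▸ ⟨y, rfl⟩) (hSC hk)) (inv_mem (hfr ▸ ⟨y, rfl⟩)))
        (by rw [show f y * k * (f y)⁻¹ * (f y * k * (f y)⁻¹) = f y * (k * k) * (f y)⁻¹ by group, htwo k hk]; group)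
    -- the square is an element of order dividing three normalising the Sylow subgroup
    let z : N := ⟨f p, hxN⟩ ^ 2
    have hz : z ∈ Subgroup.centralizer ((SN : Subgroup N) : Set N) := by
      have hzn : z ∈ Subgroup.normalizer ((SN : Subgroup N) : Set N) := by
        refine pow_mem (Subgroup.mem_normalizer_iff.2 fun k => ?_) 2
        exact Subgroup.mem_normalizer_iff.1 (hnormS p) (k : G)
      set Cs := Subgroup.centralizer ((SN : Subgroup N) : Set N) with hCs
      set Ns := Subgroup.normalizer ((SN : Subgroup N) : Set N) with hNs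
      haveI : (Cs.subgroupOf Ns).Normal :=
        ⟨fun a ha b => Subgroup.mem_subgroupOf.2 (Subgroup.mem_centralizer_iff.2 fun k hk => by
          have hk' : (b : N)⁻¹ * k * b ∈ (SN : Subgroup N) := by
            have := (Subgroup.mem_normalizer_iff.1 (inv_mem b.2) k).1 hk
            rwa [inv_inv] at this
          have := WeakJ1.conj_comm (g := (b : N)) (Subgroup.mem_centralizer_iff.1 ha _ hk')
          rw [show (b : N) * ((b : N)⁻¹ * k * b) * (b : N)⁻¹ = k by group] at this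
          exact this)⟩
      have hi : (Cs.subgroupOf Ns).index = 7 := h7
      have hpow := Subgroup.pow_index_mem (Cs.subgroupOf Ns) ⟨z, hzn⟩
      rw [hi, Subgroup.mem_subgroupOf] at hpow
      have h3 : z ^ 3 = 1 := Subtype.ext (by
        show ((⟨f p, hxN⟩ : N) ^ 2 : N).1 ^ 3 = 1
        rw [Subgroup.coe_pow, ← pow_mul, ← map_pow, q6, map_one])
      change z ^ 7 ∈ Cs at hpow
      rwa [show (7 : ℕ) = 3 * 2 + 1 from rfl, pow_add, pow_mul, h3, one_pow, one_mul, pow_one] at hpow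
    have hsq : (p * p) = 1 := by
      have h3 : ((p * p) : M4) * (p * p) * (p * p) = 1 := by
        have := q6 p
        rw [pow_succ, pow_succ, pow_succ, pow_succ, pow_succ, pow_succ, pow_zero, one_mul] at this
        simpa [mul_assoc] using this
      refine qfix _ h3 fun w hw => hfi ?_
      have hwS : f w ∈ (S : Subgroup G) := hmemS (hfr ▸ ⟨w, rfl⟩) (by rw [← map_mul, hw, map_one])
      have := congrArg Subtype.val (Subgroup.mem_centralizer_iff.1 hz ⟨f w, hSN hwS⟩ hwS)
      simp only [map_mul]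
      simp only [Subgroup.coe_mul] at this
      have e' : ((z : N) : G) = f p * f p := by
        show ((⟨f p, hxN⟩ : N) ^ 2 : N).1 = _
        rw [Subgroup.coe_pow, pow_two]
      rw [← e']
      exact this.symm
    exact hmemS (hfr ▸ ⟨p, rfl⟩) (by rw [← map_mul, hsq, map_one])
  have helem : ∀ t : N, orderOf t = 2 → IsMulCommutative (Subgroup.centralizer ({t} : Set N)) ∧
      ∀ c ∈ Subgroup.centralizer ({t} : Set N), c ^ 2 = 1 := by
    intro t ht
    have h2 : (t : G) * t = 1 := by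
      rw [← pow_two, ← ht, ← Subgroup.coe_pow, pow_orderOf_eq_one, Subgroup.coe_one]
    have h1 : (t : G) ≠ 1 := fun h => by
      rw [show t = 1 from Subtype.ext h, orderOf_one] at ht
      omega
    obtain ⟨g, hg⟩ := isConj_iff.1 (hinvol _ h2 h1)
    have hmem : ∀ c ∈ Subgroup.centralizer ({t} : Set N), g⁻¹ * (c : G) * g ∈ (S : Subgroup G) := by
      intro c hc
      refine hCN _ ?_ ?_
      · have := hNn.conj_mem _ c.2 g⁻¹
        rwa [inv_inv] at this
      · have := WeakJ1.conj_comm (g := g⁻¹)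
          (congrArg Subtype.val (Subgroup.mem_centralizer_singleton_iff.1 hc) : (c : G) * t = t * c)
        rwa [inv_inv, ← hg, show g⁻¹ * (g * J * g⁻¹) * g = J by group] at this
    refine ⟨⟨⟨fun a b => Subtype.ext (Subtype.ext ?_)⟩⟩, fun c hc => Subtype.ext ?_⟩
    · have := WeakJ1.conj_comm (g := g) (hScomm _ (hmem a a.2) _ (hmem b b.2))
      show ((a : N) : G) * (b : N) = (b : N) * (a : N)
      simpa [mul_assoc] using this
    · rw [Subgroup.coe_pow, pow_two, Subgroup.coe_one]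
      calc (c : G) * c = g * ((g⁻¹ * c * g) * (g⁻¹ * c * g)) * g⁻¹ := by group
        _ = 1 := by rw [htwo _ (hmem c hc)]; group
  have hnc : ¬ IsCyclic (SN : Subgroup N) := by
    intro h
    obtain ⟨x, hx⟩ := IsCyclic.exists_ofOrder_eq_natCard (α := (SN : Subgroup N))
    have h2 : orderOf x ∣ 2 := orderOf_dvd_of_pow_eq_one (Subtype.ext (by
      rw [Subgroup.coe_pow, Subgroup.coe_one]; exact hSNel.2 _ x.2))
    rw [hx, hSN8] at h2
    norm_num at h2
  have hnn : ¬ (SN : Subgroup N).Normal := by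
    intro h
    rcases h.eq_bot_or_eq_top with e' | e'
    · rw [e', Subgroup.card_bot] at hSN8
      omega
    · exact hNS fun x hx => (show (⟨x, hx⟩ : N) ∈ (SN : Subgroup N) from e' ▸ Subgroup.mem_top _ : _)
  obtain ⟨F, iF, iFF, hF, ⟨eN⟩⟩ := S1230.result SN hnc hnn helem
  rw [hSN8] at hF
  refine ⟨F, iF, iFF, hF, ?_⟩
  -- orders
  haveI := Fact.mk Nat.prime_two
  have haut : Nat.card (MulAut (Matrix.ProjectiveSpecialLinearGroup (Fin 2) F)) = 1512 := by
    rw [S0813.result 2 3 (by norm_num) (by rw [hF]; norm_num) 2 le_rfl (fun _ => by norm_num), if_pos rfl,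
      Classical.Dickson2.card_pgl_two, hF]
    norm_num
  have hN504 : Nat.card N = 504 := by
    classical
    rw [Nat.card_congr eN.toEquiv]
    have h1 := Classical.card_psl_mul (F := F) (ι := Fin 2)
    have h2 := Classical.card_sl_mul (F := F) hF 2 (by norm_num)
    rw [Fintype.card_fin, hF] at h1
    rw [Fin.prod_univ_two] at h2
    norm_num [-Nat.card_eq_fintype_card] at h1 h2
    omega
  have hCN' : C ⊓ N = (S : Subgroup G) := le_antisymm
    (fun x hx => hCN x hx.2 (Subgroup.mem_centralizer_singleton_iff.1 hx.1)) (le_inf hSC hSN)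
  have h3 : N.relIndex C = 3 := by
    rw [← Subgroup.inf_relIndex_left, hCN']
    have := Subgroup.card_mul_index ((S : Subgroup G).subgroupOf C)
    rw [Nat.card_congr (Subgroup.subgroupOfEquivOfLe hSC).toEquiv, hS8, hcC] at this
    show ((S : Subgroup G).subgroupOf C).index = 3
    omega
  have hGge : 1512 ≤ Nat.card G := by
    have hd := Subgroup.relIndex_dvd_index_of_normal N C
    rw [h3] at hd
    have h0 : N.index ≠ 0 := Subgroup.FiniteIndex.index_ne_zero
    have := Nat.le_of_dvd (Nat.pos_of_ne_zero h0) hd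
    rw [← N.card_mul_index, hN504]
    omega
  let φ : G →* MulAut N := MulAut.conjNormal
  have hφ : Function.Injective φ := by
    rw [← MonoidHom.ker_eq_bot_iff, eq_bot_iff]
    intro x hx
    have hc : ∀ y ∈ N, x * y = y * x := fun y hy => by
      have := congrArg (fun a : MulAut N => ((a ⟨y, hy⟩ : N) : G)) (MonoidHom.mem_ker.1 hx)
      simp only [φ, MulAut.conjNormal_apply, MulAut.one_apply] at this
      exact mul_inv_eq_iff_eq_mul.1 this
    rw [Subgroup.mem_bot]
    -- such an element centralises the Sylow subgroup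
    obtain ⟨p, hp⟩ := hpre (Subgroup.mem_centralizer_singleton_iff.2 (hc J hJN))
    have h6 : p * p = 1 := by
      have h3 : ((p * p) : M4) * (p * p) * (p * p) = 1 := by
        have := q6 p
        rw [pow_succ, pow_succ, pow_succ, pow_succ, pow_succ, pow_succ, pow_zero, one_mul] at this
        simpa [mul_assoc] using this
      refine qfix _ h3 fun w hw => hfi ?_
      have hwS : f w ∈ (S : Subgroup G) := hmemS (hfr ▸ ⟨w, rfl⟩) (by rw [← map_mul, hw, map_one])
      simp only [map_mul, hp]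
      rw [mul_assoc, hc _ (hSN hwS), ← mul_assoc, hc _ (hSN hwS), mul_assoc]
    have hxS : x ∈ (S : Subgroup G) := hp ▸ hmemS (hfr ▸ ⟨p, rfl⟩) (by rw [← map_mul, h6, map_one])
    have hz : (⟨x, hSN hxS⟩ : N) ∈ Subgroup.center N := Subgroup.mem_center_iff.2 fun y =>
      Subtype.ext (hc y y.2).symm
    rcases (inferInstance : (Subgroup.center N).Normal).eq_bot_or_eq_top with e' | e'
    · rw [e', Subgroup.mem_bot] at hz
      exact congrArg Subtype.val hz
    · exfalso
      refine hNnc ⟨⟨fun a b => ?_⟩⟩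
      exact Subgroup.mem_center_iff.1 (show b ∈ Subgroup.center N by rw [e']; exact Subgroup.mem_top b) a
  let ψ : G →* MulAut (Matrix.ProjectiveSpecialLinearGroup (Fin 2) F) := (MulAut.congr eN).toMonoidHom.comp φ
  have hψ : Function.Injective ψ := (MulAut.congr eN).injective.comp hφ
  haveI : Finite (MulAut (Matrix.ProjectiveSpecialLinearGroup (Fin 2) F)) :=
    Nat.finite_of_card_ne_zero (by rw [haut]; norm_num)
  have hle := Nat.card_le_card_of_injective ψ hψ
  exact ⟨MulEquiv.ofBijective ψ ((Nat.bijective_iff_injective_and_card _).2 ⟨hψ, by omega⟩)⟩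

end Setup

end Cfsg.Agent.CentAlt
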