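import Mathlib

/-!
Involutions of alternating groups of degree at least six are commutators in their centralisers, and finite facts
about `2 × A₄`.
-/

set_option autoImplicit false
set_option maxRecDepth 100000
set_option synthInstance.maxSize 10000
set_option linter.all false

namespace Cfsg.Agent.CentAlt

open Equiv

/-- The model of the centraliser in degree four. -/
abbrev M4 : Type := Multiplicative (ZMod 2) × ↥(alternatingGroup (Fin 4))

theorem small_deg : (∀ σ : Perm (Fin 0), σ * σ = 1 → Perm.sign σ = 1 → σ = 1) ∧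
    (∀ σ : Perm (Fin 1), σ * σ = 1 → Perm.sign σ = 1 → σ = 1) ∧
    (∀ σ : Perm (Fin 2), σ * σ = 1 → Perm.sign σ = 1 → σ = 1) ∧
    (∀ σ : Perm (Fin 3), σ * σ = 1 → Perm.sign σ = 1 → σ = 1) := by
  decide +kernel

theorem no_invol_small {m : ℕ} (hm : m ≤ 3) (σ : alternatingGroup (Fin m)) (h : σ * σ = 1) : σ = 1 := by
  have hs := Perm.mem_alternatingGroup.1 σ.2
  have h' : (σ : Perm (Fin m)) * σ = 1 := congrArg Subtype.val h
  obtain ⟨h0, h1, h2, h3⟩ := small_deg
  refine Subtype.ext ?_
  interval_cases m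
  exacts [h0 _ h' hs, h1 _ h' hs, h2 _ h' hs, h3 _ h' hs]

theorem m4_facts : (∀ x : M4, x ^ 6 = 1) ∧
    (∀ x y : M4, x * x = 1 → y * y = 1 → x * y = y * x) ∧
    (∀ x : M4, x * x * x = 1 → (∀ v : M4, v * v = 1 → x * v = v * x) → x = 1) ∧
    (∀ p q : ↥(alternatingGroup (Fin 4)), p * p = 1 → q * q = 1 → p ≠ 1 → q ≠ 1 → ∃ c, c * p * c⁻¹ = q) ∧
    (∃ p q : ↥(alternatingGroup (Fin 4)), p * p = 1 ∧ q * q = 1 ∧ p ≠ 1 ∧ q ≠ 1 ∧ p ≠ q) ∧
    (∀ p q r : ↥(alternatingGroup (Fin 4)), p * p = 1 → q * q = 1 → r * r = 1 → p ≠ 1 → q ≠ 1 → r ≠ 1 →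
      p ≠ q → p ≠ r → q ≠ r → p * q * r = 1) := by
  decide +kernel

theorem even_commutator {m : ℕ} (hm : 6 ≤ m) (s : alternatingGroup (Fin m)) (hs : s * s = 1) :
    s ∈ ⁅Subgroup.centralizer ({s} : Set (alternatingGroup (Fin m))),
      Subgroup.centralizer ({s} : Set (alternatingGroup (Fin m)))⁆ := by
  classical
  set D := ⁅Subgroup.centralizer ({s} : Set (alternatingGroup (Fin m))),
      Subgroup.centralizer ({s} : Set (alternatingGroup (Fin m)))⁆ with hD
  set σ : Perm (Fin m) := s.1 with hσ
  have hσ2 : ∀ x, σ (σ x) = x := fun x => by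
    have := congrArg (fun p : alternatingGroup (Fin m) => (p : Perm (Fin m)) x) hs
    simpa using this
  have hσi : σ⁻¹ = σ := inv_eq_of_mul_eq_one_right (Equiv.ext hσ2)
  have mem_C : ∀ (p : Perm (Fin m)) (hp : Perm.sign p = 1), (∀ x, p (σ x) = σ (p x)) →
      (⟨p, Perm.mem_alternatingGroup.2 hp⟩ : alternatingGroup (Fin m)) ∈
        Subgroup.centralizer ({s} : Set (alternatingGroup (Fin m))) := fun p hp hc =>
    Subgroup.mem_centralizer_singleton_iff.2 (Subtype.ext (Equiv.ext hc))
  have pair : ∀ a b, σ a ≠ a → σ b ≠ b → b ≠ a → b ≠ σ a →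
      ∃ h : Perm.sign (swap a (σ a) * swap b (σ b)) = 1,
        (⟨_, Perm.mem_alternatingGroup.2 h⟩ : alternatingGroup (Fin m)) ∈ D := by
    intro a b ha hb hba hbsa
    have hsab : σ b ≠ a := fun e => hbsa (by rw [← e, hσ2])
    have hss : σ b ≠ σ a := fun e => hba (σ.injective e)
    obtain ⟨c, d, hcd, hda, hdd, hdσ⟩ : ∃ c d : Fin m, c ≠ d ∧
        (c ≠ a ∧ c ≠ σ a ∧ c ≠ b ∧ c ≠ σ b) ∧ (d ≠ a ∧ d ≠ σ a ∧ d ≠ b ∧ d ≠ σ b) ∧
        ((σ c = c ∧ σ d = d) ∨ (σ c = d ∧ σ d = c)) := by
      let F : Finset (Fin m) := {a, σ a, b, σ b}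
      have hF : F.card ≤ 4 := Finset.card_le_four
      have hne : ∀ x, x ∉ F ↔ (x ≠ a ∧ x ≠ σ a ∧ x ≠ b ∧ x ≠ σ b) := fun x => by simp [F]
      by_cases hmov : ∃ c, c ∉ F ∧ σ c ≠ c
      · obtain ⟨c, hc, hcm⟩ := hmov
        obtain ⟨h1, h2, h3, h4⟩ := (hne c).1 hc
        exact ⟨c, σ c, Ne.symm hcm, ⟨h1, h2, h3, h4⟩,
          ⟨fun e => h2 (by rw [← e, hσ2]), fun e => h1 (σ.injective e),
            fun e => h4 (by rw [← e, hσ2]), fun e => h3 (σ.injective e)⟩, Or.inr ⟨rfl, hσ2 c⟩⟩
      · push Not at hmov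
        have h2 : 1 < (Fᶜ).card := by
          rw [Finset.card_compl, Fintype.card_fin]
          omega
        obtain ⟨c, hc, d, hd, hcd⟩ := Finset.one_lt_card.1 h2
        rw [Finset.mem_compl] at hc hd
        exact ⟨c, d, hcd, (hne c).1 hc, (hne d).1 hd, Or.inl ⟨hmov c hc, hmov d hd⟩⟩
    obtain ⟨hca, hcsa, hcb, hcsb⟩ := hda
    obtain ⟨hda, hdsa, hdb, hdsb⟩ := hdd
    let r : Perm (Fin m) := swap a b * swap (σ a) (σ b)
    let q : Perm (Fin m) := swap a (σ a) * swap c d
    have hr : Perm.sign r = 1 := by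
      rw [Perm.sign_mul, Perm.sign_swap (Ne.symm hba), Perm.sign_swap (Ne.symm hss)]
      rfl
    have hq : Perm.sign q = 1 := by
      rw [Perm.sign_mul, Perm.sign_swap (Ne.symm ha), Perm.sign_swap hcd]
      rfl
    have hp : Perm.sign (swap a (σ a) * swap b (σ b)) = 1 := by
      rw [Perm.sign_mul, Perm.sign_swap (Ne.symm ha), Perm.sign_swap (Ne.symm hb)]
      rfl
    have hcr : ∀ x, r (σ x) = σ (r x) := by
      intro x
      have e : σ * r = r * σ := by
        have h1 : σ * r * σ⁻¹ = r := by
          show σ * (swap a b * swap (σ a) (σ b)) * σ⁻¹ = swap a b * swap (σ a) (σ b)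
          rw [show σ * (swap a b * swap (σ a) (σ b)) * σ⁻¹ =
            (σ * swap a b * σ⁻¹) * (σ * swap (σ a) (σ b) * σ⁻¹) by group,
            ← Equiv.swap_apply_apply, ← Equiv.swap_apply_apply, hσ2, hσ2]
          exact (Perm.Disjoint.commute (fun y => by
            by_cases hy : y = σ a ∨ y = σ b
            · right; rcases hy with rfl | rfl
              · exact Equiv.swap_apply_of_ne_of_ne ha (Ne.symm hbsa)
              · exact Equiv.swap_apply_of_ne_of_ne hsab hb
            · rw [not_or] at hy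
              left
              exact Equiv.swap_apply_of_ne_of_ne hy.1 hy.2)).eq
        calc σ * r = σ * r * σ⁻¹ * σ := by group
          _ = r * σ := by rw [h1]
      exact (congrArg (fun f : Perm (Fin m) => f x) e).symm
    have hcq : ∀ x, q (σ x) = σ (q x) := by
      intro x
      have e : σ * q = q * σ := by
        have h1 : σ * q * σ⁻¹ = q := by
          show σ * (swap a (σ a) * swap c d) * σ⁻¹ = swap a (σ a) * swap c d
          rw [show σ * (swap a (σ a) * swap c d) * σ⁻¹ =
            (σ * swap a (σ a) * σ⁻¹) * (σ * swap c d * σ⁻¹) by group,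
            ← Equiv.swap_apply_apply, ← Equiv.swap_apply_apply, hσ2, swap_comm (σ a) a]
          rcases hdσ with ⟨e1, e2⟩ | ⟨e1, e2⟩
          · rw [e1, e2]
          · rw [e1, e2, swap_comm d c]
        calc σ * q = σ * q * σ⁻¹ * σ := by group
          _ = q * σ := by rw [h1]
      exact (congrArg (fun f : Perm (Fin m) => f x) e).symm
    refine ⟨hp, ?_⟩
    have e : r * q * r⁻¹ * q⁻¹ = swap a (σ a) * swap b (σ b) := by
      have h1 : r * q * r⁻¹ = swap b (σ b) * swap c d := by
        show r * (swap a (σ a) * swap c d) * r⁻¹ = _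
        rw [show r * (swap a (σ a) * swap c d) * r⁻¹ = (r * swap a (σ a) * r⁻¹) * (r * swap c d * r⁻¹) by group,
          ← Equiv.swap_apply_apply, ← Equiv.swap_apply_apply]
        have e1 : r a = b := by
          show swap a b (swap (σ a) (σ b) a) = b
          rw [Equiv.swap_apply_of_ne_of_ne (Ne.symm ha) (Ne.symm hsab), Equiv.swap_apply_left]
        have e2 : r (σ a) = σ b := by
          show swap a b (swap (σ a) (σ b) (σ a)) = σ b
          rw [Equiv.swap_apply_left, Equiv.swap_apply_of_ne_of_ne hsab hb]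
        have e3 : r c = c := by
          show swap a b (swap (σ a) (σ b) c) = c
          rw [Equiv.swap_apply_of_ne_of_ne hcsa hcsb, Equiv.swap_apply_of_ne_of_ne hca hcb]
        have e4 : r d = d := by
          show swap a b (swap (σ a) (σ b) d) = d
          rw [Equiv.swap_apply_of_ne_of_ne hdsa hdsb, Equiv.swap_apply_of_ne_of_ne hda hdb]
        rw [e1, e2, e3, e4]
      rw [h1, mul_inv_rev, Equiv.swap_inv, Equiv.swap_inv,
        show swap b (σ b) * swap c d * (swap c d * swap a (σ a)) =
          swap b (σ b) * (swap c d * swap c d) * swap a (σ a) by group, Equiv.swap_mul_self, mul_one]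
      exact (Perm.Disjoint.commute (fun y => by
        by_cases hy : y = a ∨ y = σ a
        · left; rcases hy with rfl | rfl
          · exact Equiv.swap_apply_of_ne_of_ne (Ne.symm hba) (Ne.symm hsab)
          · exact Equiv.swap_apply_of_ne_of_ne (Ne.symm hbsa) (Ne.symm hss)
        · rw [not_or] at hy
          right
          exact Equiv.swap_apply_of_ne_of_ne hy.1 hy.2)).eq
    have := Subgroup.commutator_mem_commutator (mem_C r hr hcr) (mem_C q hq hcq)
    rw [← hD] at this
    convert this using 1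
    exact Subtype.ext e.symm
  have key : ∀ (n : ℕ) (π : Perm (Fin m)), π.support.card ≤ n → (hπ : Perm.sign π = 1) →
      (∀ x, π x = x ∨ π x = σ x) → (⟨π, Perm.mem_alternatingGroup.2 hπ⟩ : alternatingGroup (Fin m)) ∈ D := by
    intro n
    induction n with
    | zero =>
      intro π hn hπ hpart
      have : π = 1 := Perm.support_eq_empty_iff.1 (Finset.card_eq_zero.1 (Nat.le_zero.1 hn))
      subst this
      exact one_mem D
    | succ n ih =>
      intro π hn hπ hpart
      by_cases h1 : π = 1
      · subst h1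
        exact one_mem D
      obtain ⟨a, ha⟩ : ∃ a, π a ≠ a := by
        by_contra hno
        push Not at hno
        exact h1 (Equiv.ext hno)
      have hσa : π a = σ a := (hpart a).resolve_left ha
      have hmoved : ∀ x, π x ≠ x → π (σ x) = σ (σ x) := fun x hx => by
        refine (hpart (σ x)).resolve_left fun e => hx ?_
        exact π.injective (by rw [(hpart x).resolve_left hx, e])
      obtain ⟨b, hb, hba, hbsa⟩ : ∃ b, π b ≠ b ∧ b ≠ a ∧ b ≠ σ a := by
        by_contra hno
        push Not at hno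
        have : π = swap a (σ a) := Equiv.ext fun x => by
          by_cases hx : x = a
          · rw [hx, Equiv.swap_apply_left, hσa]
          by_cases hx' : x = σ a
          · rw [hx', Equiv.swap_apply_right, hmoved a ha, hσ2]
          rw [Equiv.swap_apply_of_ne_of_ne hx hx']
          by_contra hne
          exact hx' (hno x hne hx)
        rw [this, Perm.sign_swap (fun e => ha (by rw [hσa, ← e]))] at hπ
        exact absurd hπ (by decide)
      have hσb : π b = σ b := (hpart b).resolve_left hb
      obtain ⟨hP, hPD⟩ := pair a b (hσa ▸ ha) (hσb ▸ hb) hba hbsa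
      set P := swap a (σ a) * swap b (σ b) with hPdef
      have hsab : σ b ≠ a := fun e => hbsa (by rw [← e, hσ2])
      have hss : σ b ≠ σ a := fun e => hba (σ.injective e)
      have hfix : ∀ y, y ≠ a → y ≠ σ a → y ≠ b → y ≠ σ b → P y = y := fun y h1 h2 h3 h4 => by
        rw [hPdef, Perm.mul_apply, Equiv.swap_apply_of_ne_of_ne h3 h4, Equiv.swap_apply_of_ne_of_ne h1 h2]
      have hP4 : P (σ a) = a ∧ P a = σ a ∧ P (σ b) = b ∧ P b = σ b := by
        refine ⟨?_, ?_, ?_, ?_⟩ <;> rw [hPdef, Perm.mul_apply]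
        · rw [Equiv.swap_apply_of_ne_of_ne (Ne.symm hbsa) (Ne.symm hss), Equiv.swap_apply_right]
        · rw [Equiv.swap_apply_of_ne_of_ne (Ne.symm hba) (Ne.symm hsab), Equiv.swap_apply_left]
        · rw [Equiv.swap_apply_right, Equiv.swap_apply_of_ne_of_ne hba hbsa]
        · rw [Equiv.swap_apply_left, Equiv.swap_apply_of_ne_of_ne hsab hss]
      have hnew : ∀ x, (P * π) x = x ∨ ((P * π) x = π x ∧ x ≠ a) := fun x => by
        rw [Perm.mul_apply]
        by_cases hx : x = a
        · left; rw [hx, hσa, hP4.1]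
        by_cases hx2 : x = σ a
        · left; rw [hx2, hmoved a ha, hσ2, hP4.2.1]
        by_cases hx3 : x = b
        · left; rw [hx3, hσb, hP4.2.2.1]
        by_cases hx4 : x = σ b
        · left; rw [hx4, hmoved b hb, hσ2, hP4.2.2.2]
        right
        refine ⟨?_, hx⟩
        rcases hpart x with e | e <;> rw [e]
        · exact hfix x hx hx2 hx3 hx4
        · refine hfix _ (fun e' => hx2 (by rw [← e', hσ2])) (fun e' => hx (σ.injective e'))
            (fun e' => hx4 (by rw [← e', hσ2])) (fun e' => hx3 (σ.injective e'))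
      have hπ' : Perm.sign (P * π) = 1 := by rw [Perm.sign_mul, hP, hπ, one_mul]
      have hlt : (P * π).support.card < π.support.card := by
        refine Finset.card_lt_card ⟨fun x hx => ?_, fun hsub => ?_⟩
        · rw [Perm.mem_support] at hx ⊢
          rcases hnew x with e | ⟨e, -⟩
          · exact absurd e hx
          · rwa [e] at hx
        · have := hsub (Perm.mem_support.2 ha)
          rw [Perm.mem_support] at this
          rcases hnew a with e | ⟨-, e⟩
          · exact this e
          · exact e rfl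
      have h2 := ih (P * π) (by omega) hπ' fun x => by
        rcases hnew x with e | ⟨e, -⟩
        · exact Or.inl e
        · rw [e]; exact hpart x
      have := mul_mem (inv_mem hPD) h2
      convert this using 1
      exact Subtype.ext (show π = P⁻¹ * (P * π) by group)
  exact key _ σ le_rfl (Perm.mem_alternatingGroup.1 s.2) fun x => Or.inr rfl

end Cfsg.Agent.CentAlt
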